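import Mathlib

/-! Subgroups containing all derangements of a transitive action. -/

namespace CfsgLib.Derange

open MulAction

variable {G Ω : Type*} [Group G] [Finite G] [MulAction G Ω] [Finite Ω]
  [IsPretransitive G Ω] (E : Subgroup G)

theorem sum_fixedBy_sub (Y : Type*) [Finite Y] [MulAction G Y] (E : Subgroup G) [Fintype G]
    [DecidablePred (· ∈ E)] :
    ∑ g ∈ Finset.univ.filter (· ∈ E), Nat.card (fixedBy Y g) =
      Nat.card (orbitRel.Quotient E Y) * Nat.card E := by
  classical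
  have := Fintype.ofFinite Y
  rw [Finset.sum_subtype (p := (· ∈ E)) _ (by simp), Nat.card_eq_fintype_card, Nat.card_eq_fintype_card,
    ← sum_card_fixedBy_eq_card_orbits_mul_card_group E Y]
  refine Finset.sum_congr rfl fun x _ => ?_
  rw [← Nat.card_eq_fintype_card]
  rfl

theorem sum_fixedBy (Y : Type*) [Finite Y] [MulAction G Y] [Fintype G] :
    ∑ g : G, Nat.card (fixedBy Y g) = Nat.card (orbitRel.Quotient G Y) * Nat.card G := by
  classical
  have := Fintype.ofFinite Y
  simp only [Nat.card_eq_fintype_card]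
  exact sum_card_fixedBy_eq_card_orbits_mul_card_group G Y

theorem eq_top_of_isEmpty (hE : ∀ g : G, (∀ ω : Ω, g • ω ≠ ω) → g ∈ E) [IsEmpty Ω] : E = ⊤ :=
  eq_top_iff.2 fun g _ => hE g fun ω => isEmptyElim ω

/-- Both halves of the counting lemma. -/
theorem main (hE : ∀ g : G, (∀ ω : Ω, g • ω ≠ ω) → g ∈ E) :
    IsPretransitive E Ω ∧ ∀ g : G, g ∉ E → Nat.card (fixedBy Ω g) = 1 := by
  classical
  have := Fintype.ofFinite G
  rcases isEmpty_or_nonempty Ω with hΩ | hΩ
  · exact ⟨⟨fun x => isEmptyElim x⟩, fun g hg => absurd (hE g fun ω => isEmptyElim ω) hg⟩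
  have : Nonempty (orbitRel.Quotient G Ω) := hΩ.map (Quotient.mk _)
  have : Nonempty (orbitRel.Quotient E Ω) := hΩ.map (Quotient.mk _)
  have h1 : Nat.card (orbitRel.Quotient G Ω) = 1 := by
    rw [Nat.card_eq_one_iff_unique]
    exact ⟨pretransitive_iff_subsingleton_quotient G Ω |>.1 inferInstance, inferInstance⟩
  have htot := sum_fixedBy (G := G) Ω
  rw [h1, one_mul, ← Finset.sum_filter_add_sum_filter_not _ (· ∈ E), sum_fixedBy_sub] at htot
  have hge : ∀ g ∈ Finset.univ.filter (· ∉ E), 1 ≤ Nat.card (fixedBy Ω g) := by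
    intro g hg
    simp only [Finset.mem_filter, Finset.mem_univ, true_and] at hg
    by_contra h0
    apply hg
    refine hE g fun ω hω => h0 ?_
    have : Nonempty (fixedBy Ω g) := ⟨⟨ω, hω⟩⟩
    exact Nat.card_pos
  have hsum : Nat.card E + (Finset.univ.filter (· ∉ E)).card = Nat.card G := by
    rw [Nat.card_eq_fintype_card, Nat.card_eq_fintype_card, Fintype.card_subtype,
      Finset.card_filter_add_card_filter_not, Finset.card_univ]
  set s := ∑ g ∈ Finset.univ.filter (· ∉ E), Nat.card (fixedBy Ω g) with hs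
  set o := Nat.card (orbitRel.Quotient E Ω)
  have hsge : (Finset.univ.filter (· ∉ E)).card ≤ s := by
    rw [hs, Finset.card_eq_sum_ones]
    exact Finset.sum_le_sum hge
  have ho : 1 ≤ o := Nat.card_pos
  have hEpos : 0 < Nat.card E := Nat.card_pos
  have h2 : o * Nat.card E ≤ 1 * Nat.card E := by rw [one_mul]; omega
  have ho1 : o = 1 := le_antisymm (Nat.le_of_mul_le_mul_right h2 hEpos) ho
  refine ⟨?_, fun g hg => ?_⟩
  · rw [pretransitive_iff_subsingleton_quotient]
    exact (Nat.card_eq_one_iff_unique.1 ho1).1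
  · rw [ho1, one_mul] at htot
    have heq : ∑ g ∈ Finset.univ.filter (· ∉ E), (1 : ℕ) = s := by
      rw [Finset.sum_const, smul_eq_mul, mul_one]; omega
    exact ((Finset.sum_eq_sum_iff_of_le hge).1 heq g (by simp [hg])).symm

theorem mem_of_fix_two (hE : ∀ g : G, (∀ ω : Ω, g • ω ≠ ω) → g ∈ E) {g : G} {a b : Ω}
    (hab : a ≠ b) (ha : g • a = a) (hb : g • b = b) : g ∈ E := by
  by_contra hg
  have h := Nat.card_eq_one_iff_unique.1 ((main E hE).2 g hg)
  have := h.1
  exact hab (congrArg Subtype.val (Subsingleton.elim (⟨a, ha⟩ : fixedBy Ω g) ⟨b, hb⟩))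

theorem rank_eq (hE : ∀ g : G, (∀ ω : Ω, g • ω ≠ ω) → g ∈ E) :
    Nat.card (orbitRel.Quotient E (Ω × Ω)) + E.index =
      Nat.card (orbitRel.Quotient G (Ω × Ω)) * E.index + 1 := by
  classical
  have := Fintype.ofFinite G
  have htot := sum_fixedBy (G := G) (Ω × Ω)
  rw [← Finset.sum_filter_add_sum_filter_not _ (· ∈ E), sum_fixedBy_sub] at htot
  have hone : ∑ g ∈ Finset.univ.filter (· ∉ E), Nat.card (fixedBy (Ω × Ω) g) =
      (Finset.univ.filter (· ∉ E)).card := by
    rw [Finset.card_eq_sum_ones]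
    refine Finset.sum_congr rfl fun g hg => ?_
    simp only [Finset.mem_filter, Finset.mem_univ, true_and] at hg
    have h1 := (main E hE).2 g hg
    have e : fixedBy (Ω × Ω) g ≃ fixedBy Ω g × fixedBy Ω g :=
      { toFun := fun x => (⟨x.1.1, congrArg Prod.fst x.2⟩, ⟨x.1.2, congrArg Prod.snd x.2⟩)
        invFun := fun x => ⟨(x.1.1, x.2.1), Prod.ext x.1.2 x.2.2⟩
        left_inv := fun x => rfl
        right_inv := fun x => rfl }
    rw [Nat.card_congr e, Nat.card_prod, h1]
  rw [hone] at htot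
  have hsum : Nat.card E + (Finset.univ.filter (· ∉ E)).card = Nat.card G := by
    rw [Nat.card_eq_fintype_card, Nat.card_eq_fintype_card, Fintype.card_subtype,
      Finset.card_filter_add_card_filter_not, Finset.card_univ]
  have hidx : E.index * Nat.card E = Nat.card G := E.index_mul_card
  have hEpos : 0 < Nat.card E := Nat.card_pos
  apply Nat.eq_of_mul_eq_mul_right hEpos
  rw [Nat.add_mul, Nat.add_mul, Nat.mul_assoc, hidx, Nat.one_mul]
  omega

omit [Finite Ω] [IsPretransitive G Ω] in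
theorem card_stab_sub (h : IsPretransitive E Ω) (a : Ω) :
    Nat.card (stabilizer E a) * Nat.card Ω = Nat.card E := by
  have e := (stabilizer E a).index_mul_card
  rw [index_stabilizer, orbit_eq_univ E a, Set.ncard_univ] at e
  rw [mul_comm]; exact e

/-- The index divides each non-trivial suborbit. -/
theorem index_dvd_orbit (hE : ∀ g : G, (∀ ω : Ω, g • ω ≠ ω) → g ∈ E) {a b : Ω} (hab : b ≠ a) :
    E.index ∣ (orbit (stabilizer G a) b).ncard := by
  have : Nonempty Ω := ⟨a⟩
  have hT := (main E hE).1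
  have hn : 0 < Nat.card Ω := Nat.card_pos
  have hG : Nat.card (stabilizer G a) * Nat.card Ω = Nat.card G := by
    have e := (stabilizer G a).index_mul_card
    rw [index_stabilizer, orbit_eq_univ G a, Set.ncard_univ] at e
    rw [mul_comm]; exact e
  have hE' := card_stab_sub E hT a
  have hkey : Nat.card (stabilizer G a) = E.index * Nat.card (stabilizer E a) := by
    apply Nat.eq_of_mul_eq_mul_right hn
    rw [hG, mul_assoc, hE', E.index_mul_card]
  let ι : stabilizer (stabilizer G a) b →* stabilizer E a :=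
    { toFun := fun g => ⟨⟨g.1.1, mem_of_fix_two E hE hab g.2 g.1.2⟩, g.1.2⟩
      map_one' := rfl
      map_mul' := fun _ _ => rfl }
  have hι : Function.Injective ι := fun x y h => by
    have h' : ((ι x).1.1 : G) = (ι y).1.1 := by rw [h]
    exact Subtype.ext (Subtype.ext h')
  have hdvd : Nat.card (stabilizer (stabilizer G a) b) ∣ Nat.card (stabilizer E a) :=
    Subgroup.card_dvd_of_injective ι hι
  obtain ⟨u, hu⟩ := hdvd
  have e := (stabilizer (stabilizer G a) b).index_mul_card
  rw [index_stabilizer, hkey, hu, mul_comm _ u, ← mul_assoc] at e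
  exact ⟨u, Nat.eq_of_mul_eq_mul_right Nat.card_pos e⟩

theorem index_dvd_ncard (hE : ∀ g : G, (∀ ω : Ω, g • ω ≠ ω) → g ∈ E) (a : Ω) :
    ∀ s : Set Ω, a ∉ s → (∀ g ∈ stabilizer G a, ∀ x ∈ s, g • x ∈ s) → E.index ∣ s.ncard := by
  intro s
  induction hk : s.ncard using Nat.strong_induction_on generalizing s with
  | _ k ih =>
    intro ha hs
    rcases s.eq_empty_or_nonempty with rfl | ⟨b, hb⟩
    · simp [← hk]
    have hab : b ≠ a := fun h => ha (h ▸ hb)
    set O := orbit (stabilizer G a) b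
    have hOs : O ⊆ s := by
      rintro _ ⟨g, rfl⟩; exact hs g.1 g.2 b hb
    have hsum := Set.ncard_sdiff_add_ncard_of_subset hOs
    have hlt : (s \ O).ncard < k := by
      have : 0 < O.ncard := (Set.ncard_pos).2 ⟨b, mem_orbit_self b⟩
      omega
    have h1 : E.index ∣ (s \ O).ncard := ih _ hlt (s \ O) rfl (fun h => ha h.1) (fun g hg x hx =>
      ⟨hs g hg x hx.1, fun hgx => hx.2 (by
        have := (mem_orbit (g⁻¹ • x) (1 : stabilizer G a))
        obtain ⟨k', hk'⟩ := hgx
        refine ⟨⟨g, hg⟩⁻¹ * k', ?_⟩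
        simp only [mul_smul]
        show (⟨g, hg⟩ : stabilizer G a)⁻¹ • (k' • b) = x
        rw [show k' • b = g • x from hk']
        exact inv_smul_smul (⟨g, hg⟩ : stabilizer G a) x)⟩)
    rw [← hk, ← hsum]
    exact Nat.dvd_add h1 (index_dvd_orbit E hE hab)

theorem index_dvd_card_sub_one (hE : ∀ g : G, (∀ ω : Ω, g • ω ≠ ω) → g ∈ E) :
    E.index ∣ Nat.card Ω - 1 := by
  rcases isEmpty_or_nonempty Ω with hΩ | ⟨⟨a⟩⟩
  · simp
  have h := index_dvd_ncard E hE a {a}ᶜ (by simp) (fun g hg x hx => by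
    simp only [Set.mem_compl_iff, Set.mem_singleton_iff] at hx ⊢
    intro h; apply hx
    exact (smul_left_cancel g (h.trans (mem_stabilizer_iff.1 hg).symm)))
  rwa [Set.ncard_compl, Set.ncard_singleton] at h

end CfsgLib.Derange
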